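import Mathlib
import Cfsg.Agent.Lib.Perm.MultiTransDiag
import Cfsg.Agent.Lib.Perm.MultiTransBurnside
import Cfsg.Agent.Lib.Recog.ExtPrim
import Cfsg.Agent.Lib.Count.Subgroups
import Cfsg.Agent.Lib.Char.Burnside

/-!
Derangements of primitive groups that are not almost simple.
-/

set_option autoImplicit false

namespace CfsgLib.DerCls

open MulAction Subgroup Cfsg CfsgLib CfsgLib.Perm

variable {G : Type*} [Group G] {Ω : Type*} [MulAction G Ω]

/-- `g` fixes no point. -/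
abbrev Der (Ω : Type*) [MulAction G Ω] (g : G) : Prop := ∀ ω : Ω, g • ω ≠ ω

/-- The classes of derangements. -/
abbrev Cls (G Ω : Type*) [Group G] [MulAction G Ω] :=
  {c : ConjClasses G // ∃ g : G, ConjClasses.mk g = c ∧ ∀ ω : Ω, g • ω ≠ ω}

theorem Der.conj {a b : G} (h : Der Ω a) (e : IsConj a b) : Der Ω b := by
  obtain ⟨c, rfl⟩ := isConj_iff.1 e
  intro ω hω
  apply h (c⁻¹ • ω)
  rw [mul_smul, mul_smul, smul_eq_iff_eq_inv_smul] at hω
  exact hω

theorem conj_of_card_one (h : Nat.card (Cls G Ω) = 1) {a b : G} (ha : Der Ω a) (hb : Der Ω b) :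
    IsConj a b := by
  have := (Nat.card_eq_one_iff_unique.1 h).1.elim (⟨ConjClasses.mk a, a, rfl, ha⟩ : Cls G Ω)
    ⟨ConjClasses.mk b, b, rfl, hb⟩
  exact ConjClasses.mk_eq_mk_iff_isConj.1 (congrArg Subtype.val this)

theorem conj_of_card_two (h : Nat.card (Cls G Ω) = 2) {a b c : G} (ha : Der Ω a) (hb : Der Ω b)
    (hc : Der Ω c) (hab : ¬ IsConj a b) : IsConj a c ∨ IsConj b c := by
  obtain ⟨x, y, -, hxy⟩ := Nat.card_eq_two_iff.1 h
  have key : ∀ (d : G) (hd : Der Ω d), (⟨ConjClasses.mk d, d, rfl, hd⟩ : Cls G Ω) = x ∨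
      (⟨ConjClasses.mk d, d, rfl, hd⟩ : Cls G Ω) = y := fun d hd => by
    have : (⟨ConjClasses.mk d, d, rfl, hd⟩ : Cls G Ω) ∈ ({x, y} : Set (Cls G Ω)) := by
      rw [hxy]; trivial
    simpa using this
  have k2 : ∀ {d e : G} {z : Cls G Ω}, ConjClasses.mk d = z.1 → ConjClasses.mk e = z.1 →
      IsConj d e := fun h1 h2 => ConjClasses.mk_eq_mk_iff_isConj.1 (h1.trans h2.symm)
  have key' : ∀ d : G, Der Ω d → ConjClasses.mk d = x.1 ∨ ConjClasses.mk d = y.1 := fun d hd =>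
    (key d hd).imp (congrArg Subtype.val) (congrArg Subtype.val)
  rcases key' a ha with h1 | h1 <;> rcases key' b hb with h2 | h2 <;>
    rcases key' c hc with h3 | h3
  exacts [absurd (k2 h1 h2) hab, absurd (k2 h1 h2) hab, Or.inl (k2 h1 h3), Or.inr (k2 h2 h3),
    Or.inr (k2 h2 h3), Or.inl (k2 h1 h3), absurd (k2 h1 h2) hab, absurd (k2 h1 h2) hab]

theorem card_one_of {a : G} (ha : Der Ω a) (h : ∀ b : G, Der Ω b → IsConj a b) :
    Nat.card (Cls G Ω) = 1 := by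
  rw [Nat.card_eq_one_iff_unique]
  refine ⟨⟨?_⟩, ⟨⟨ConjClasses.mk a, a, rfl, ha⟩⟩⟩
  rintro ⟨_, x, rfl, hx⟩ ⟨_, y, rfl, hy⟩
  exact Subtype.ext (ConjClasses.mk_eq_mk_iff_isConj.2 ((h x hx).symm.trans (h y hy)))

theorem transitive_of_normal [FaithfulSMul G Ω] [IsPreprimitive G Ω] (K : Subgroup G)
    [hK : K.Normal] (hK0 : K ≠ ⊥) (x y : Ω) : ∃ k ∈ K, k • x = y := by
  have : IsPretransitive K Ω := by
    apply IsQuasiPreprimitive.isPretransitive_of_normal
    intro h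
    have hx : x ∈ fixedPoints K Ω := by rw [h]; trivial
    exact hK0 (Recog.eq_bot_of_normal_le_stabilizer (α := x) fun k hk => hx ⟨k, hk⟩)
  obtain ⟨k, hk⟩ := exists_smul_eq K x y
  exact ⟨k, k.2, hk⟩

theorem eq_one_of_mem_centralizer {T : Subgroup G} [IsSimpleGroup T] (hT : ¬ IsMulCommutative T)
    {t : G} (ht : t ∈ T) (htc : t ∈ centralizer (T : Set G)) : t = 1 := by
  rcases (inferInstance : (center T).Normal).eq_bot_or_eq_top with h1 | h1
  · have : (⟨t, ht⟩ : T) ∈ center T :=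
      mem_center_iff.2 fun s => Subtype.ext (mem_centralizer_iff.1 htc s s.2)
    rw [h1, mem_bot] at this
    exact congrArg Subtype.val this
  · exact absurd ⟨⟨fun a b => mem_center_iff.1 (h1 ▸ mem_top b : b ∈ center T) a⟩⟩ hT

/-- A regular elementary abelian normal subgroup. -/
structure Aff (Ω : Type*) [MulAction G Ω] (N : Subgroup G) : Prop where
  normal : N.Normal
  ne : N ≠ ⊥
  elem : ∃ r : ℕ, r.Prime ∧ IsElementaryAbelian r N
  trans : ∀ x y : Ω, ∃ n ∈ N, n • x = y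
  reg : ∀ n ∈ N, ∀ x : Ω, n • x = x → n = 1

/-- Product action type data. -/
structure Prd (Ω : Type*) [MulAction G Ω] (T : Subgroup G) (x g₀ : G) : Prop where
  mem : x ∈ T
  ne : x ≠ 1
  der : ∀ c ∈ centralizer (T : Set G), Der Ω (x * c)
  cent : ∀ t ∈ T, g₀ * t * g₀⁻¹ ∈ centralizer (T : Set G)
  sep : ∀ u ∈ T, ∀ t ∈ T, ∀ g : G, g * (u * (g₀ * t * g₀⁻¹)) * g⁻¹ ∈ T → u = 1 ∨ t = 1

theorem trichotomy [Finite G] [FaithfulSMul G Ω] [IsPreprimitive G Ω] [Nontrivial Ω]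
    (hnas : ¬ ∃ T : Subgroup G, T.Normal ∧ IsSimpleGroup T ∧ ¬ IsMulCommutative T ∧
      Subgroup.centralizer (T : Set G) = ⊥) :
    (∃ N : Subgroup G, Aff Ω N) ∨ ∃ T : Subgroup G, IsSimpleGroup T ∧ ¬ IsMulCommutative T ∧
      ((∀ t ∈ T, t ≠ 1 → Der Ω t) ∨ ∃ x g₀, Prd Ω T x g₀) := by
  classical
  obtain ⟨a, b₀, hab⟩ := exists_pair_ne Ω
  have hnt : Nontrivial G := by
    obtain ⟨g, hg⟩ := exists_smul_eq G a b₀
    exact ⟨g, 1, fun h => hab (by rw [← hg, h, one_smul])⟩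
  obtain ⟨N, hN, hN0, -, hmin⟩ := Core.exists_minimal_normal_le (K := (⊤ : Subgroup G)) top_ne_bot
  have htr := transitive_of_normal (Ω := Ω) N hN0
  by_cases hc : IsMulCommutative N
  · have : Group.IsSolvable N := Group.isSolvable_of_comm fun a b => mul_comm' a b
    refine Or.inl ⟨N, hN, hN0, Core.isElementaryAbelian_of_minimal_normal hN0 hmin, htr,
      fun n hn x hx => eq_one_of_commute_of_fix (fun b => ?_) hx⟩
    obtain ⟨m, hm, h⟩ := htr x b
    exact ⟨m, congrArg Subtype.val (mul_comm' (⟨n, hn⟩ : N) ⟨m, hm⟩), h⟩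
  right
  obtain ⟨T, hTN, hNT, hTs, hTc, h2, h3⟩ := exists_simple_factor N hN0 hmin hc
  refine ⟨T, hTs, hTc, ?_⟩
  by_cases hTn : T.Normal
  · left
    intro t ht ht1 x hx
    have hC : centralizer (T : Set G) ≠ ⊥ := fun h => hnas ⟨T, hTn, hTs, hTc, h⟩
    refine ht1 (eq_one_of_commute_of_fix (fun b => ?_) hx)
    obtain ⟨m, hm, h⟩ := transitive_of_normal (Ω := Ω) _ hC x b
    exact ⟨m, mem_centralizer_iff.1 hm t ht, h⟩
  obtain ⟨g₀, hg₀⟩ : ∃ g₀ : G, T.map (MulAut.conj g₀).toMonoidHom ≤ centralizer (T : Set G) := by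
    by_contra hall
    push Not at hall
    exact hTn ⟨fun t ht g => ((h2 g).resolve_right (hall g)).le ⟨t, ht, rfl⟩⟩
  have hnc := Core.normalizer_le_normalizer_centralizer (T : Set G)
  have hdec : ∀ n ∈ N, ∃ t ∈ T, ∃ c ∈ centralizer (T : Set G), t * c = n := by
    intro n hn
    have h1 : n ∈ ((T ⊔ centralizer (T : Set G) : Subgroup G) : Set G) :=
      h3 _ (fun g => (h2 g).elim (fun h => h.le.trans le_sup_left) fun h => h.trans le_sup_right) hn
    rw [coe_mul_of_left_le_normalizer_right _ _ (le_normalizer.trans hnc)] at h1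
    exact h1
  let R : Subgroup T :=
    { carrier := {t | ∃ c ∈ centralizer (T : Set G), ((t : G) * c) • a = a}
      one_mem' := ⟨1, one_mem _, by simp⟩
      mul_mem' := by
        rintro s t ⟨c, hc, hs⟩ ⟨d, hd, ht⟩
        refine ⟨c * d, mul_mem hc hd, ?_⟩
        have : ((s * t : T) : G) * (c * d) = (s * c) * (t * d) := by
          rw [coe_mul, mul_assoc, mul_assoc, ← mul_assoc (t : G), mem_centralizer_iff.1 hc t t.2,
            mul_assoc]
        rw [this, mul_smul, ht, hs]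
      inv_mem' := by
        rintro s ⟨c, hc, hs⟩
        refine ⟨c⁻¹, inv_mem hc, ?_⟩
        have : ((s⁻¹ : T) : G) * c⁻¹ = (s * c)⁻¹ := by
          rw [mem_centralizer_iff.1 hc s s.2, mul_inv_rev, coe_inv]
        rw [this, inv_smul_eq_iff, hs] }
  by_cases hR : R = ⊤
  · left
    have hn : (stabilizer T a).Normal := ⟨fun s hs t => by
      obtain ⟨c, hc, ht⟩ : t ∈ R := hR ▸ mem_top t
      have hs' : (s : G) • a = a := hs
      have e : ((t * s * t⁻¹ : T) : G) = (t * c) * s * (t * c)⁻¹ := by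
        rw [mul_assoc (t : G) c, ← mem_centralizer_iff.1 hc s s.2]; simp [mul_assoc]
      change ((t * s * t⁻¹ : T) : G) • a = a
      rw [e, mul_smul, mul_smul, inv_smul_eq_iff.2 ht.symm, hs', ht]⟩
    have hfix : ∀ t ∈ T, ∀ x : Ω, t • x = x → ∃ s ∈ T, s • a = a ∧ (s = 1 → t = 1) := by
      intro t ht x hx
      obtain ⟨n, hn, rfl⟩ := htr a x
      refine ⟨n⁻¹ * t * n⁻¹⁻¹, (mem_normalizer_iff.1 (hNT (inv_mem hn)) t).1 ht, ?_, fun h => ?_⟩
      · rw [inv_inv, mul_smul, mul_smul, hx, inv_smul_smul]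
      · exact conj_eq_one_iff.1 h
    rcases hn.eq_bot_or_eq_top with h | h
    · intro t ht ht1 x hx
      obtain ⟨s, hs, h1, h2⟩ := hfix t ht x hx
      have : (⟨s, hs⟩ : T) ∈ stabilizer T a := h1
      rw [h, mem_bot] at this
      exact ht1 (h2 (congrArg Subtype.val this))
    · exfalso
      refine (nontrivial_iff_ne_bot T).1 inferInstance (eq_bot_iff.2 fun t ht => ?_)
      refine mem_bot.2 (FaithfulSMul.eq_of_smul_eq_smul (α := Ω) fun b => ?_)
      obtain ⟨n, hn, rfl⟩ := htr a b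
      have h1 : n⁻¹ * t * n⁻¹⁻¹ ∈ T := (mem_normalizer_iff.1 (hNT (inv_mem hn)) t).1 ht
      have h4 : (⟨_, h1⟩ : T) ∈ stabilizer T a := h ▸ mem_top _
      have h5 : (n⁻¹ * t * n⁻¹⁻¹) • a = a := h4
      rw [inv_inv, mul_smul, mul_smul, inv_smul_eq_iff] at h5
      rw [h5, one_smul]
  right
  obtain ⟨x, hx⟩ : ∃ x : T, ∀ g : T, g * x * g⁻¹ ∉ R := by
    by_contra hall
    push Not at hall
    exact hR (Count.eq_top_of_forall_exists_conj_mem R hall)
  refine ⟨x, g₀, x.2, fun h => hx 1 ?_, fun c hc ω hω => ?_, fun t ht => hg₀ ⟨t, ht, rfl⟩, ?_⟩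
  · rw [show x = 1 from Subtype.ext h]; simp
  · obtain ⟨n, hn, rfl⟩ := htr a ω
    obtain ⟨t, ht, d, hd, rfl⟩ := hdec n hn
    refine hx ⟨t, ht⟩⁻¹ ⟨d⁻¹ * c * d, mul_mem (mul_mem (inv_mem hd) hc) hd, ?_⟩
    have e : (((⟨t, ht⟩⁻¹ * x * ⟨t, ht⟩⁻¹⁻¹ : T) : G)) * (d⁻¹ * c * d) = (t * d)⁻¹ * (x * c) * (t * d) := by
      have h1 := mem_centralizer_iff.1 (inv_mem hd) _ (mul_mem (mul_mem (inv_mem ht) x.2) ht)
      have h4 := mem_centralizer_iff.1 hc t ht
      simp only [coe_mul, coe_inv, inv_inv]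
      rw [← mul_assoc, ← mul_assoc, h1]
      simp only [mul_inv_rev, mul_assoc]
      rw [← mul_assoc t c, h4, mul_assoc]
    rw [e, mul_smul, mul_smul, mul_smul, ← mul_smul (x : G), hω, inv_smul_smul]
  · intro u hu t ht g hg
    set v := g₀ * t * g₀⁻¹ with hv
    have hvc : v ∈ centralizer (T : Set G) := hg₀ ⟨t, ht, rfl⟩
    have huv : u * v ∈ T.map (MulAut.conj g⁻¹).toMonoidHom := ⟨_, hg, by simp [mul_assoc]⟩
    rcases h2 g⁻¹ with h | h
    · rw [h] at huv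
      have : v = 1 := eq_one_of_mem_centralizer hTc (by simpa using mul_mem (inv_mem hu) huv) hvc
      right
      simpa [hv] using this
    · exact Or.inl (eq_one_of_mem_centralizer hTc hu (by simpa using mul_mem (h huv) (inv_mem hvc)))

theorem exists_three {T : Subgroup G} [Finite G] [IsSimpleGroup T] (hT : ¬ IsMulCommutative T) :
    ∃ p q r : ℕ, p.Prime ∧ q.Prime ∧ r.Prime ∧ p ≠ q ∧ p ≠ r ∧ q ≠ r ∧
      (∃ x ∈ T, orderOf x = p) ∧ (∃ x ∈ T, orderOf x = q) ∧ ∃ x ∈ T, orderOf x = r := by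
  have h : 2 < (Nat.card T).primeFactors.card := by
    by_contra h
    have := Char.isSolvable_of_card_primeFactors_le_two (G := T) (not_lt.1 h)
    exact hT ⟨⟨IsSimpleGroup.comm_iff_isSolvable.2 this⟩⟩
  obtain ⟨p, q, r, hp, hq, hr, h1, h2, h3⟩ := Finset.two_lt_card_iff.1 h
  have k : ∀ s ∈ (Nat.card T).primeFactors, ∃ x ∈ T, orderOf x = s := fun s hs =>
    Core.exists_mem_orderOf_eq_of_dvd_card (Nat.prime_of_mem_primeFactors hs)
      (Nat.dvd_of_mem_primeFactors hs)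
  exact ⟨p, q, r, Nat.prime_of_mem_primeFactors hp, Nat.prime_of_mem_primeFactors hq,
    Nat.prime_of_mem_primeFactors hr, h1, h2, h3, k p hp, k q hq, k r hr⟩

theorem ne_one_of_orderOf {x : G} {p : ℕ} (hp : p.Prime) (h : orderOf x = p) : x ≠ 1 := by
  rintro rfl
  exact hp.one_lt.ne (by rw [← h, orderOf_one])

theorem not_conj_of_orderOf {x y : G} (h : orderOf x ≠ orderOf y) : ¬ IsConj x y := fun e => by
  obtain ⟨c, rfl⟩ := isConj_iff.1 e
  exact h ((MulAut.conj c).orderOf_eq x).symm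

/-- Outside the affine and almost simple cases there are three classes of derangements. -/
theorem three_classes [Finite G] {T : Subgroup G} [IsSimpleGroup T] (hT : ¬ IsMulCommutative T)
    (h : (∀ t ∈ T, t ≠ 1 → Der Ω t) ∨ ∃ x g₀, Prd Ω T x g₀) :
    ∃ a b c : G, Der Ω a ∧ Der Ω b ∧ Der Ω c ∧ ¬ IsConj a b ∧ ¬ IsConj a c ∧ ¬ IsConj b c := by
  obtain ⟨p, q, r, hp, hq, hr, hpq, hpr, hqr, ⟨a, ha, hap⟩, ⟨b, hb, hbq⟩, c, hc, hcr⟩ :=
    exists_three hT
  rcases h with h | ⟨x, g₀, h⟩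
  · exact ⟨a, b, c, h a ha (ne_one_of_orderOf hp hap), h b hb (ne_one_of_orderOf hq hbq),
      h c hc (ne_one_of_orderOf hr hcr), not_conj_of_orderOf (by rwa [hap, hbq]),
      not_conj_of_orderOf (by rwa [hap, hcr]), not_conj_of_orderOf (by rwa [hbq, hcr])⟩
  have key : ∀ (p q : ℕ) (a b : G), p.Prime → q.Prime → p ≠ q → a ∈ T → b ∈ T → orderOf a = p →
      orderOf b = q → x ^ p ≠ 1 → ∃ a b c : G, Der Ω a ∧ Der Ω b ∧ Der Ω c ∧ ¬ IsConj a b ∧
        ¬ IsConj a c ∧ ¬ IsConj b c := by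
    intro p q a b hp hq hpq ha hb hap hbq hxp
    have k1 : ∀ t ∈ T, t ≠ 1 → ¬ IsConj x (x * (g₀ * t * g₀⁻¹)) := fun t ht ht1 e => by
      obtain ⟨g, hg⟩ := isConj_iff.1 e.symm
      exact (h.sep x h.mem t ht g (by rw [hg]; exact h.mem)).elim h.ne ht1
    have k2 : ∀ t ∈ T, (x * (g₀ * t * g₀⁻¹)) ^ p = x ^ p * (g₀ * t ^ p * g₀⁻¹) := fun t ht => by
      rw [Commute.mul_pow (mem_centralizer_iff.1 (h.cent t ht) x h.mem), conj_pow]
    refine ⟨x, _, _, by simpa using h.der 1 (one_mem _), h.der _ (h.cent a ha),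
      h.der _ (h.cent b hb), k1 a ha (ne_one_of_orderOf hp hap), k1 b hb (ne_one_of_orderOf hq hbq),
      fun e => ?_⟩
    obtain ⟨g, hg⟩ := isConj_iff.1 e.symm
    have h1 : g * (x * (g₀ * b * g₀⁻¹)) ^ p * g⁻¹ ∈ T := by
      rw [← conj_pow, hg, k2 a ha, ← hap, pow_orderOf_eq_one a]
      simpa using pow_mem h.mem _
    rw [k2 b hb] at h1
    refine (h.sep _ (pow_mem h.mem p) _ (pow_mem hb p) g h1).elim hxp fun h2 => ?_
    exact hpq ((Nat.prime_dvd_prime_iff_eq hq hp).1 (hbq ▸ orderOf_dvd_of_pow_eq_one h2)).symm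
  by_cases hxp : x ^ p = 1
  · refine key q p b a hq hp hpq.symm hb ha hbq hap fun hxq => h.ne ?_
    rw [← orderOf_eq_one_iff]
    exact Nat.eq_one_of_dvd_coprimes ((Nat.coprime_primes hp hq).2 hpq)
      (orderOf_dvd_of_pow_eq_one hxp) (orderOf_dvd_of_pow_eq_one hxq)
  · exact key p q a b hp hq hpq ha hb hap hbq hxp

namespace Aff

variable {N : Subgroup G} (h : Aff Ω N)
include h

theorem comm : IsMulCommutative N := let ⟨_, _, e⟩ := h.elem; e.1

theorem der {n : G} (hn : n ∈ N) (h1 : n ≠ 1) : Der Ω n := fun x hx => h1 (h.reg n hn x hx)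

theorem stab (ω : Ω) : stabilizer N ω = ⊥ :=
  eq_bot_iff.2 fun n hn => mem_bot.2 (Subtype.ext (h.reg n n.2 ω hn))

/-- Conjugacy in `N` is realised by the stabiliser of a point. -/
theorem conj_stab (a : Ω) {x y : G} (hx : x ∈ N) (e : IsConj x y) :
    ∃ g : G, g • a = a ∧ g * x * g⁻¹ = y := by
  obtain ⟨g, rfl⟩ := isConj_iff.1 e
  obtain ⟨n, hn, hg⟩ := h.trans (g • a) a
  refine ⟨n * g, by rw [mul_smul, hg], ?_⟩
  have := h.comm
  have h1 : n * (g * x * g⁻¹) = (g * x * g⁻¹) * n :=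
    congrArg Subtype.val (mul_comm' (⟨n, hn⟩ : N) ⟨_, h.normal.conj_mem x hx g⟩)
  calc n * g * x * (n * g)⁻¹ = n * (g * x * g⁻¹) * n⁻¹ := by group
    _ = _ := by rw [h1, mul_inv_cancel_right]

theorem two_trans (hc : ∀ x ∈ N, ∀ y ∈ N, x ≠ 1 → y ≠ 1 → IsConj x y) :
    IsMultiplyPretransitive G Ω 2 := by
  refine is_two_pretransitive_iff.2 fun {a b c d} hab hcd => ?_
  obtain ⟨n, hn, rfl⟩ := h.trans a c
  obtain ⟨x, hx, rfl⟩ := h.trans a b
  obtain ⟨y, hy, hyd⟩ := h.trans a (n⁻¹ • d)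
  obtain ⟨g, hg, e⟩ := h.conj_stab a hx (hc x hx y hy (by rintro rfl; simp at hab) (by
    rintro rfl
    rw [one_smul] at hyd
    exact hcd (by rw [hyd, smul_inv_smul])))
  refine ⟨n * g, by rw [mul_smul, hg], ?_⟩
  have : g • x • a = y • a := by
    rw [← e, mul_smul, mul_smul, inv_smul_eq_iff.2 hg.symm]
  rw [mul_smul, this, hyd, smul_inv_smul]

/-- If a non-identity element fixes two points, there is a derangement outside `N`. -/
theorem exists_der [Finite G] {g : G} (hg : g ≠ 1) {a b : Ω} (hab : a ≠ b) (ha : g • a = a)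
    (hb : g • b = b) : ∃ d : G, d ∉ N ∧ Der Ω d := by
  let f : N → N := fun m => ⟨m * (g * (m : G)⁻¹ * g⁻¹),
    mul_mem m.2 (h.normal.conj_mem _ (inv_mem m.2) g)⟩
  obtain ⟨m, hm, hmb⟩ := h.trans a b
  have hga : g⁻¹ • a = a := inv_smul_eq_iff.2 ha.symm
  have h1 : ¬ Function.Injective f := fun hi => by
    have : f ⟨m, hm⟩ = f 1 := Subtype.ext (by
      have h2 := h.reg _ (mul_mem (inv_mem hm) (h.normal.conj_mem m hm g)) a (by
        rw [mul_smul, mul_smul, mul_smul, hga, hmb, hb, inv_smul_eq_iff, hmb])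
      have h3 : g * m * g⁻¹ = m := (inv_mul_eq_one.1 h2).symm
      change m * (g * m⁻¹ * g⁻¹) = 1 * (g * 1⁻¹ * g⁻¹)
      rw [show g * m⁻¹ * g⁻¹ = (g * m * g⁻¹)⁻¹ by group, h3]; simp)
    have h4 : m = 1 := congrArg Subtype.val (hi this)
    exact hab (by rw [← hmb, h4, one_smul])
  rw [Finite.injective_iff_surjective] at h1
  obtain ⟨n, hn⟩ : ∃ n : N, ∀ m, f m ≠ n := by
    by_contra hall
    push Not at hall
    exact h1 hall
  refine ⟨n * g, fun hd => hg (h.reg g (by simpa using mul_mem (inv_mem n.2) hd) a ha), fun ω hω => ?_⟩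
  obtain ⟨k, hk, rfl⟩ := h.trans a ω
  refine hn ⟨k, hk⟩ (Subtype.ext ?_)
  have h2 := h.reg (k⁻¹ * n * (g * k * g⁻¹)) (mul_mem (mul_mem (inv_mem hk) n.2)
    (h.normal.conj_mem k hk g)) a (by
      rw [mul_smul, mul_smul, mul_smul, mul_smul, hga, ← mul_smul (n : G), hω, inv_smul_smul])
  change k * (g * k⁻¹ * g⁻¹) = n
  calc k * (g * k⁻¹ * g⁻¹) = k * (k⁻¹ * n * (g * k * g⁻¹)) * (g * k⁻¹ * g⁻¹) := by rw [h2, mul_one]
    _ = n := by group

end Aff

theorem exists_der [Finite G] [Nontrivial Ω] [IsPretransitive G Ω] : ∃ g : G, Der Ω g := by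
  by_contra hall
  simp only [not_exists, not_forall, not_not] at hall
  obtain ⟨a, b, hab⟩ := exists_pair_ne Ω
  have : stabilizer G a = ⊤ := Count.eq_top_of_forall_exists_conj_mem _ fun x => by
    obtain ⟨ω, hω⟩ := hall x
    obtain ⟨g, hg⟩ := exists_smul_eq G ω a
    exact ⟨g, by rw [mem_stabilizer_iff, mul_smul, mul_smul, inv_smul_eq_iff.2 hg.symm, hω, hg]⟩
  obtain ⟨g, hg⟩ := exists_smul_eq G a b
  exact hab (by rw [← hg]; exact (show g ∈ stabilizer G a from this ▸ mem_top g).symm)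

theorem der_unique [Finite Ω] (h2 : IsMultiplyPretransitive G Ω 2)
    (hs : ∀ g : G, g ≠ 1 → ∀ a b : Ω, a ≠ b → g • a = a → g • b ≠ b) {z y : G} (hz : Der Ω z)
    (hy : Der Ω y) {a : Ω} (e : z • a = y • a) : z = y := by
  classical
  by_contra hne
  obtain ⟨b, hb⟩ : ∃ b, z • a = b := ⟨_, rfl⟩
  have hab : a ≠ b := hb ▸ (hz a).symm
  have : ∀ c : Ω, ∃ g : G, g • a = b ∧ (c = a → g = z) ∧ (c = b → g = y) ∧
      (c ≠ a → c ≠ b → g • c = c) := fun c => by
    by_cases hca : c = a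
    · exact ⟨z, hb, fun _ => rfl, fun h => absurd (hca.symm.trans h) hab, fun h => absurd hca h⟩
    by_cases hcb : c = b
    · exact ⟨y, e ▸ hb, fun h => absurd h hca, fun _ => rfl, fun _ h => absurd hcb h⟩
    obtain ⟨g, h1, h3⟩ := is_two_pretransitive_iff.1 h2 (Ne.symm hca) (Ne.symm hcb)
    exact ⟨g, h1, fun h => absurd h hca, fun h => absurd h hcb, fun _ _ => h3⟩
  choose ψ h1 h3 h4 h5 using this
  have hu : ∀ g g' : G, ∀ u v : Ω, u ≠ v → g • u = g' • u → g • v = g' • v → g = g' :=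
    fun g g' u v huv k1 k2 => by
      by_contra hg
      refine hs (g⁻¹ * g') (fun h => hg (inv_mul_eq_one.1 h)) u v huv ?_ ?_
      · rw [mul_smul, ← k1, inv_smul_smul]
      · rw [mul_smul, ← k2, inv_smul_smul]
  have hψ1 : ∀ c, ψ c ≠ 1 := fun c h => hab (by rw [← h1 c, h, one_smul])
  have hder : ∀ c, c = a ∨ c = b → Der Ω (ψ c) := fun c hc =>
    hc.elim (fun h => h3 c h ▸ hz) fun h => h4 c h ▸ hy
  have inj : Function.Injective fun c => ψ c • b := fun c d hcd => by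
    have h6 : ψ c = ψ d := hu _ _ a b hab ((h1 c).trans (h1 d).symm) hcd
    by_contra hne'
    by_cases hc : c = a ∨ c = b
    · by_cases hd : d = a ∨ d = b
      · rcases hc with hc | hc <;> rcases hd with hd | hd
        · exact hne' (hc.trans hd.symm)
        · exact hne (by rw [← h3 c hc, h6, h4 d hd])
        · exact hne (by rw [← h3 d hd, ← h6, h4 c hc])
        · exact hne' (hc.trans hd.symm)
      · push Not at hd
        exact hder c hc d (h6 ▸ h5 d hd.1 hd.2)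
    · push Not at hc
      by_cases hd : d = a ∨ d = b
      · exact hder d hd c (h6 ▸ h5 c hc.1 hc.2)
      · push Not at hd
        exact hs _ (hψ1 c) c d hne' (h5 c hc.1 hc.2) (h6 ▸ h5 d hd.1 hd.2)
  obtain ⟨c, hc⟩ := Finite.injective_iff_surjective.1 inj b
  exact hab (smul_left_cancel (ψ c) ((h1 c).trans hc.symm))

/-- In a sharply 2-transitive group the derangements form one class. -/
theorem card_one_of_sharp [Finite G] [Finite Ω] [Nontrivial Ω] (h2 : IsMultiplyPretransitive G Ω 2)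
    (hs : ∀ g : G, g ≠ 1 → ∀ a b : Ω, a ≠ b → g • a = a → g • b ≠ b) :
    Nat.card (Cls G Ω) = 1 := by
  have : IsPretransitive G Ω := by
    have := isMultiplyPretransitive_of_le (G := G) (α := Ω) (m := 1) (n := 2) (by norm_num)
      (by have := Finite.one_lt_card_iff_nontrivial.2 ‹Nontrivial Ω›; omega)
    exact is_one_pretransitive_iff.1 this
  obtain ⟨x, hx⟩ := exists_der (G := G) (Ω := Ω)
  refine card_one_of hx fun y hy => ?_
  obtain ⟨a⟩ : Nonempty Ω := inferInstance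
  obtain ⟨g, h1, h3⟩ := is_two_pretransitive_iff.1 h2 (hx a).symm (hy a).symm
  have e : IsConj x (g * x * g⁻¹) := isConj_iff.2 ⟨g, rfl⟩
  rw [← der_unique h2 hs (hx.conj e) hy (a := a)
    (by rw [mul_smul, mul_smul, inv_smul_eq_iff.2 h1.symm, h3])]
  exact e

end CfsgLib.DerCls
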